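import Mathlib.RingTheory.MvPowerSeries.Substitution
import Mathlib.RingTheory.MvPowerSeries.Inverse
import Mathlib.Data.Finsupp.WellFounded
import Mathlib.Data.Finsupp.Interval

/-!
Substitutions `X i ↦ X i * U i` with `U i` units are automorphisms of the power series ring.
-/

noncomputable section

namespace Groth.Agent.KumFam.TriSubst

open MvPowerSeries
open scoped Classical

variable {σ : Type*} [Finite σ] {R : Type*} [CommRing R] (U : σ → MvPowerSeries σ R)

theorem hasSubst : HasSubst (fun i => X i * U i : σ → MvPowerSeries σ R) :=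
  hasSubst_of_constantCoeff_zero fun i => by simp

theorem prod_eq (d : σ →₀ ℕ) :
    (d.prod fun s e => (X s * U s) ^ e) = monomial d 1 * d.prod fun s e => (U s) ^ e := by
  simp only [mul_pow, Finsupp.prod_mul]
  congr 1
  rw [MvPowerSeries.monomial_one_eq]

/-- the coefficients of the substitution -/
def c (d e : σ →₀ ℕ) : R :=
  if d ≤ e then coeff (e - d) (d.prod fun s n => (U s) ^ n) else 0

theorem coeff_prod (d e : σ →₀ ℕ) : coeff e (d.prod fun s n => (X s * U s) ^ n) = c U d e := by
  classical
  rw [prod_eq, coeff_monomial_mul, c]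
  simp

theorem isUnit_c_self (hU : ∀ i, IsUnit (constantCoeff (U i))) (e : σ →₀ ℕ) : IsUnit (c U e e) := by
  rw [c, if_pos le_rfl, tsub_self, coeff_zero_eq_constantCoeff_apply, Finsupp.prod, map_prod]
  exact IsUnit.prod_iff.2 fun i _ => by rw [map_pow]; exact (hU i).pow _

theorem coeff_sub (f : MvPowerSeries σ R) (e : σ →₀ ℕ) :
    coeff e (subst (fun i => X i * U i) f) =
      coeff e f * c U e e + ∑ d ∈ Finset.Iio e, coeff d f * c U d e := by
  classical
  rw [coeff_subst (hasSubst U), finsum_eq_sum_of_support_subset (s := Finset.Iic e)]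
  · rw [← Finset.Iio_insert, Finset.sum_insert (by simp)]
    simp [coeff_prod, smul_eq_mul]
  · intro d hd
    simp only [Function.mem_support, coeff_prod, smul_eq_mul] at hd
    simp only [Finset.coe_Iic, Set.mem_Iic]
    by_contra h
    exact hd (by simp [c, h])

variable (hU : ∀ i, IsUnit (constantCoeff (U i)))

/-- coefficientwise inverse -/
def inv (g : MvPowerSeries σ R) : (σ →₀ ℕ) → R
  | e => (g e - ∑ d ∈ (Finset.Iio e).attach, inv g d.1 * c U d.1 e) *
      ((isUnit_c_self U hU e).unit⁻¹ : Rˣ)
termination_by e => e.sum fun _ n => n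
decreasing_by
  have h := Finset.mem_Iio.1 d.2
  have h' : e = d.1 + (e - d.1) := (add_tsub_cancel_of_le h.le).symm
  have hne : (e - d.1) ≠ 0 := by
    intro h0; rw [h0, add_zero] at h'; exact h.ne h'.symm
  change d.1.sum (fun _ n => n) < e.sum (fun _ n => n)
  conv_rhs => rw [h']
  rw [Finsupp.sum_add_index' (fun _ => rfl) (fun _ _ _ => rfl)]
  obtain ⟨i, hi⟩ := Finsupp.ne_iff.1 hne
  have : 0 < (e - d.1).sum fun _ n => n := by
    apply Finset.sum_pos'
    · intro j _; exact Nat.zero_le _
    · exact ⟨i, Finsupp.mem_support_iff.2 hi, Nat.pos_of_ne_zero hi⟩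
  omega

include hU in
theorem bijective : Function.Bijective (subst (R := R) (fun i => X i * U i : σ → MvPowerSeries σ R)) := by
  classical
  refine ⟨fun f g h => ?_, fun g => ⟨(inv U hU g : MvPowerSeries σ R), ?_⟩⟩
  · ext e
    induction e using WellFoundedLT.induction with
    | ind e ih =>
      have := congrArg (coeff e) h
      rw [coeff_sub, coeff_sub, Finset.sum_congr rfl (fun d hd => by
        rw [ih d (Finset.mem_Iio.1 hd)])] at this
      exact (isUnit_c_self U hU e).mul_right_cancel (add_right_cancel this)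
  · ext e
    refine (coeff_sub U (inv U hU g : MvPowerSeries σ R) e).trans ?_
    change inv U hU g e * c U e e + (∑ d ∈ Finset.Iio e, inv U hU g d * c U d e) = g e
    rw [inv.eq_def U hU g e]
    dsimp only
    rw [Finset.sum_attach (Finset.Iio e) (fun d => inv U hU g d * c U d e), mul_assoc,
      IsUnit.val_inv_mul, mul_one, sub_add_cancel]

/-- `X i ↦ X i * U i` as an automorphism -/
def equiv : MvPowerSeries σ R ≃ₐ[R] MvPowerSeries σ R :=
  AlgEquiv.ofBijective (substAlgHom (R := R) (hasSubst U)) (by
    simpa [coe_substAlgHom] using bijective U hU)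

theorem equiv_apply (f : MvPowerSeries σ R) : equiv U hU f = subst (fun i => X i * U i) f := by
  simp [equiv, substAlgHom_apply]

@[simp] theorem equiv_X (i : σ) : equiv U hU (X i) = X i * U i := by
  rw [equiv_apply, subst_X (hasSubst U)]

@[simp] theorem equiv_C (r : R) : equiv U hU (C r) = C r :=
  (equiv U hU).commutes r

omit [Finite σ] in
/-- cube roots of `1 + m` when `3` is a unit -/
theorem exists_cube_root (h3 : IsUnit (3 : R)) [Finite σ] (x : MvPowerSeries σ R)
    (hx : constantCoeff x = 0) :
    ∃ w : MvPowerSeries σ R, constantCoeff w = 1 ∧ w ^ 3 = 1 + x := by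
  let V : Unit → MvPowerSeries Unit R := fun _ => 3 + 3 * X () + X () ^ 2
  have hV : ∀ i, IsUnit (constantCoeff (V i)) := fun i => by simpa [V, map_ofNat] using h3
  let t : MvPowerSeries Unit R := X ()
  obtain ⟨q, hq⟩ := (equiv V hV).surjective t
  have hcube : (1 + q) ^ 3 = 1 + t := by
    apply (equiv V hV).injective
    rw [map_pow, map_add, map_one, hq, map_add, map_one, equiv_X]
    simp only [V, t]; ring
  have hq0 : constantCoeff q = 0 := by
    have := congrArg (coeff 0) hq
    rw [equiv_apply, coeff_sub] at this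
    simp [t, c] at this
    exact this
  have ha : HasSubst (fun _ : Unit => x) := hasSubst_of_constantCoeff_zero fun _ => hx
  refine ⟨substAlgHom (R := R) ha (1 + q), ?_, ?_⟩
  · rw [map_add, map_one, map_add, map_one, substAlgHom_apply,
      constantCoeff_subst_eq_zero ha (fun _ => hx) hq0, add_zero]
  · rw [← map_pow, hcube]
    simp [t, substAlgHom_apply, subst_add ha, subst_X ha]
    rw [← map_one (C (R := R)), subst_C, map_one]

end Groth.Agent.KumFam.TriSubst
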